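import Mathlib

/-!
# Nagata's change of variables with uniform exponents
-/

set_option autoImplicit false

universe u

open MvPolynomial

namespace Groth.Agent.FlatMorNoether

variable {K : Type u} [Field K] {m : ℕ}

/-- The substitution `X₀ ↦ T`, `X_{j+1} ↦ t_j + T ^ (N ^ (j+1))`. -/
noncomputable def nagata (K : Type u) [CommRing K] (m N : ℕ) :
    MvPolynomial (Fin (m + 1)) K →ₐ[K] Polynomial (MvPolynomial (Fin m) K) :=
  aeval (Fin.cons Polynomial.X fun j => Polynomial.C (X j) + Polynomial.X ^ N ^ (j.1 + 1))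

theorem isUnit_leadingCoeff_nagata {N : ℕ} (f : MvPolynomial (Fin (m + 1)) K) (hf : f ≠ 0)
    (hN : ∀ v ∈ f.support, ∀ i, v i < N) :
    IsUnit (nagata K m N f).leadingCoeff := by
  classical
  let w : (Fin (m + 1) →₀ ℕ) → ℕ := fun v => Nat.ofDigits N (List.ofFn v)
  have hwsum : ∀ v : Fin (m + 1) →₀ ℕ, w v = ∑ i : Fin (m + 1), N ^ i.1 * v i := fun v => by
    simp only [w, Nat.ofDigits_eq_sum_mapIdx, List.mapIdx_eq_ofFn, List.get_ofFn, List.length_ofFn,
      Fin.val_cast, List.sum_ofFn]
    exact Finset.sum_congr rfl fun i _ => mul_comm _ _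
  have hmon : ∀ i : Fin (m + 1),
      ((Fin.cons Polynomial.X fun j => Polynomial.C (X j) + Polynomial.X ^ N ^ (j.1 + 1)) :
        Fin (m + 1) → Polynomial (MvPolynomial (Fin m) K)) i |>.Monic := by
    intro i
    cases i using Fin.cases with
    | zero => exact Polynomial.monic_X
    | succ j =>
      rw [Fin.cons_succ, add_comm]
      obtain ⟨v, hv⟩ := MvPolynomial.support_nonempty.2 hf
      have : 0 < N := (Nat.zero_le _).trans_lt (hN v hv 0)
      exact Polynomial.monic_X_pow_add_C _ (pow_ne_zero _ this.ne')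
  have key : ∀ v : Fin (m + 1) →₀ ℕ, ∃ P : Polynomial (MvPolynomial (Fin m) K), P.Monic ∧
      P.natDegree = w v ∧ ∀ a, nagata K m N (monomial v a) = Polynomial.C (C a) * P := by
    intro v
    refine ⟨∏ i, (Fin.cons Polynomial.X (fun j => Polynomial.C (X j) + Polynomial.X ^ N ^ (j.1 + 1)) :
        Fin (m + 1) → Polynomial (MvPolynomial (Fin m) K)) i ^ v i,
      Polynomial.monic_prod_of_monic _ _ fun i _ => (hmon i).pow _, ?_, fun a => ?_⟩
    · rw [Polynomial.natDegree_prod_of_monic _ _ fun i _ => (hmon i).pow _, hwsum]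
      refine Finset.sum_congr rfl fun i _ => ?_
      rw [(hmon i).natDegree_pow, mul_comm]
      congr 1
      cases i using Fin.cases with
      | zero => simp
      | succ j => rw [Fin.cons_succ, add_comm, Polynomial.natDegree_X_pow_add_C]; rfl
    · rw [nagata, aeval_monomial, Finsupp.prod_pow]
      rfl
  choose P hP1 hP2 hP3 using key
  obtain ⟨v, hv, hmax⟩ := Finset.exists_max_image f.support w (MvPolynomial.support_nonempty.2 hf)
  have hinj : ∀ x ∈ f.support, w x = w v → x = v := fun x hx h => by
    refine Finsupp.ext (congrFun (List.ofFn_inj.1 ?_))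
    by_cases h1 : 1 < N
    · exact Nat.ofDigits_inj_of_len_eq h1 (by simp)
        (fun l hl => by
          simp only [List.mem_ofFn] at hl
          obtain ⟨i, rfl⟩ := hl
          exact hN x hx i)
        (fun l hl => by
          simp only [List.mem_ofFn] at hl
          obtain ⟨i, rfl⟩ := hl
          exact hN v hv i) h
    · congr 1
      funext i
      have := hN x hx i
      have := hN v hv i
      omega
  have hsum : nagata K m N f = ∑ x ∈ f.support, Polynomial.C (C (coeff x f)) * P x := by
    conv_lhs => rw [f.as_sum, map_sum]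
    exact Finset.sum_congr rfl fun x _ => hP3 x _
  have hdeg : ∀ x ∈ f.support, (Polynomial.C (C (coeff x f)) * P x).natDegree = w x ∧
      Polynomial.C (C (coeff x f)) * P x ≠ 0 := fun x hx => by
    have h0 : C (σ := Fin m) (coeff x f) ≠ 0 := by simpa using MvPolynomial.mem_support_iff.1 hx
    refine ⟨by rw [Polynomial.natDegree_C_mul h0, hP2], mul_ne_zero (by simpa using h0) (hP1 x).ne_zero⟩
  have hlead : (nagata K m N f).leadingCoeff = C (coeff v f) := by
    rw [hsum, ← Finset.add_sum_erase _ _ hv, add_comm, Polynomial.leadingCoeff_add_of_degree_lt]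
    · rw [Polynomial.leadingCoeff_mul, Polynomial.leadingCoeff_C, (hP1 v).leadingCoeff, mul_one]
    · refine (Polynomial.degree_sum_le _ _).trans_lt ((Finset.sup_lt_iff ?_).2 fun x hx => ?_)
      · rw [bot_lt_iff_ne_bot, ne_eq, Polynomial.degree_eq_bot]
        exact (hdeg v hv).2
      · obtain ⟨hxv, hx⟩ := Finset.mem_erase.1 hx
        refine Polynomial.degree_lt_degree ?_
        rw [(hdeg x hx).1, (hdeg v hv).1]
        exact lt_of_le_of_ne (hmax x hx) fun h => hxv (hinj x hx h)
  rw [hlead]
  exact (isUnit_iff_ne_zero.2 (MvPolynomial.mem_support_iff.1 hv)).map C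

end Groth.Agent.FlatMorNoether
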