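import Mathlib
import Groth.Agent.FlatMorNoether.Nagata
import Groth.Agent.DimLib.Algebra

/-!
# Weak relative Noether normalisation

`exists_fibre_integral`: a finite type algebra whose fibre rings have dimension at most `d` receives a
map from `R[t₁, …, t_d]` that is integral on every fibre; `quasiFinite_of_fibre_integral`.
-/

set_option autoImplicit false
set_option backward.isDefEq.respectTransparency false

universe u

open MvPolynomial TensorProduct Topology

namespace Groth.Agent.FlatMorNoether

theorem exists_map_eq_C_mul {A k : Type u} [CommRing A] [Field k] (ψ : A →+* k)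
    (hψ : ∀ a : k, ∃ b c, a = ψ b / ψ c) {σ : Type*} (P : MvPolynomial σ k) :
    ∃ (c : A) (Q : MvPolynomial σ A), ψ c ≠ 0 ∧ MvPolynomial.map ψ Q = C (ψ c) * P := by
  induction P using MvPolynomial.induction_on' with
  | monomial d a =>
    obtain ⟨b, c, rfl⟩ := hψ a
    by_cases hc : ψ c = 0
    · exact ⟨1, 0, by simp, by simp [hc]⟩
    · exact ⟨c, monomial d b, hc, by rw [map_monomial, C_mul_monomial, mul_div_cancel₀ _ hc]⟩
  | add P₁ P₂ h1 h2 =>
    obtain ⟨c₁, Q₁, hc₁, hQ₁⟩ := h1
    obtain ⟨c₂, Q₂, hc₂, hQ₂⟩ := h2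
    refine ⟨c₁ * c₂, C c₂ * Q₁ + C c₁ * Q₂, by rw [map_mul]; exact mul_ne_zero hc₁ hc₂, ?_⟩
    simp only [map_add, map_mul, map_C, hQ₁, hQ₂]
    ring

variable {R : Type u} [CommRing R]

theorem residueField_div (p : Ideal R) [p.IsPrime] (a : p.ResidueField) :
    ∃ b c, a = algebraMap R p.ResidueField b / algebraMap R p.ResidueField c := by
  obtain ⟨b, c, -, rfl⟩ := IsFractionRing.div_surjective (A := R ⧸ p) a
  obtain ⟨b, rfl⟩ := Ideal.Quotient.mk_surjective b
  obtain ⟨c, rfl⟩ := Ideal.Quotient.mk_surjective c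
  exact ⟨b, c, rfl⟩

variable {S : Type u} [CommRing S] [Algebra R S]

/-- The map on the fibre over `p` given by coordinates in `S`. -/
noncomputable def fibreMap (p : Ideal R) [p.IsPrime] {m : ℕ} (v : Fin m → S) :
    MvPolynomial (Fin m) p.ResidueField →ₐ[p.ResidueField] p.Fiber S :=
  aeval fun i => Algebra.TensorProduct.includeRight (v i)

theorem fibreMap_map (p : Ideal R) [p.IsPrime] {m : ℕ} (v : Fin m → S) (f : MvPolynomial (Fin m) R) :
    fibreMap p v (map (algebraMap R p.ResidueField) f) =
      Algebra.TensorProduct.includeRight (aeval v f) := by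
  have h : (fibreMap p v).toRingHom.comp (map (algebraMap R p.ResidueField)) =
      (Algebra.TensorProduct.includeRight (R := R) (A := p.ResidueField) (B := S)).toRingHom.comp
        (aeval v : MvPolynomial (Fin m) R →ₐ[R] S).toRingHom := by
    refine ringHom_ext (fun a => ?_) fun i => ?_
    · simp only [fibreMap, AlgHom.toRingHom_eq_coe, RingHom.comp_apply, map_C, RingHom.coe_coe,
        aeval_C, AlgHom.commutes]
      exact (IsScalarTower.algebraMap_apply R p.ResidueField (p.Fiber S) a).symm
    · simp [fibreMap]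
  exact congr($h f)

/-- An element killed in the fibre over `p` is killed, up to a multiplier outside `p`, modulo `p`. -/
theorem exists_mul_mem_of_fibre_eq_zero (p : Ideal R) [p.IsPrime] {x : S}
    (hx : (Algebra.TensorProduct.includeRight x : p.Fiber S) = 0) :
    ∃ t ∉ p, algebraMap R S t * x ∈ p.map (algebraMap R S) := by
  let _ : Algebra S (p.Fiber S) := Algebra.TensorProduct.rightAlgebra
  have h := congrArg (Ideal.Fiber.algEquivAux₁ p) (show algebraMap S (p.Fiber S) x = 0 from hx)
  rw [map_zero, AlgEquiv.commutes, IsScalarTower.algebraMap_apply S (Localization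
    (Algebra.algebraMapSubmonoid S p.primeCompl)), Ideal.Quotient.algebraMap_eq,
    Ideal.Quotient.eq_zero_iff_mem,
    IsLocalization.algebraMap_mem_map_algebraMap_iff (Algebra.algebraMapSubmonoid S p.primeCompl)] at h
  obtain ⟨_, ⟨t, ht, rfl⟩, htx⟩ := h
  exact ⟨t, ht, htx⟩

theorem isOpen_cons_basicOpen (a : R) :
    IsOpen[constructibleTopology (PrimeSpectrum R)] (PrimeSpectrum.basicOpen a : Set (PrimeSpectrum R)) :=
  (PrimeSpectrum.isCompact_basicOpen a).isOpen_constructibleTopology_of_isOpen
    (PrimeSpectrum.basicOpen a).2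

theorem isOpen_cons_zeroLocus_finset (T : Finset R) :
    IsOpen[constructibleTopology (PrimeSpectrum R)] (PrimeSpectrum.zeroLocus (T : Set R)) := by
  refine IsCompact.isOpen_constructibleTopology_of_isClosed ?_ (PrimeSpectrum.isClosed_zeroLocus _)
  have : (PrimeSpectrum.zeroLocus (T : Set R))ᶜ =
      ⋃ a ∈ T, (PrimeSpectrum.basicOpen a : Set (PrimeSpectrum R)) := by
    ext q
    simp [PrimeSpectrum.mem_zeroLocus, Set.subset_def]
  rw [this]
  exact T.isCompact_biUnion fun a _ => PrimeSpectrum.isCompact_basicOpen a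

/-- If no fibre map is injective, finitely many polynomials are nonzero relations on all fibres. -/
theorem exists_finset_relations {m : ℕ} (v : Fin m → S)
    (h : ∀ p : PrimeSpectrum R, ¬ Function.Injective (fibreMap p.asIdeal v)) :
    ∃ F : Finset (MvPolynomial (Fin m) R), ∀ p : PrimeSpectrum R, ∃ f ∈ F,
      map (algebraMap R p.asIdeal.ResidueField) f ≠ 0 ∧
      fibreMap p.asIdeal v (map (algebraMap R p.asIdeal.ResidueField) f) = 0 := by
  classical
  let U : MvPolynomial (Fin m) R → Set (PrimeSpectrum R) := fun f =>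
    {p | map (algebraMap R p.asIdeal.ResidueField) f ≠ 0 ∧
      fibreMap p.asIdeal v (map (algebraMap R p.asIdeal.ResidueField) f) = 0}
  have hU : ∀ p : PrimeSpectrum R, ∃ (f : MvPolynomial (Fin m) R) (O : Set (PrimeSpectrum R)),
      p ∈ O ∧ IsOpen[constructibleTopology (PrimeSpectrum R)] O ∧ O ⊆ U f := by
    intro p
    obtain ⟨g, hg0, hg⟩ : ∃ g, fibreMap p.asIdeal v g = 0 ∧ g ≠ 0 := by
      have := h p
      rw [injective_iff_map_eq_zero] at this
      push Not at this
      exact this
    obtain ⟨c, f, hc, hf⟩ := exists_map_eq_C_mul (algebraMap R p.asIdeal.ResidueField)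
      (residueField_div p.asIdeal) g
    have hf0 : fibreMap p.asIdeal v (map (algebraMap R p.asIdeal.ResidueField) f) = 0 := by
      rw [hf, map_mul, hg0, mul_zero]
    have hfne : map (algebraMap R p.asIdeal.ResidueField) f ≠ 0 := by
      rw [hf]; exact mul_ne_zero (by simpa using hc) hg
    obtain ⟨d, hd⟩ : ∃ d, algebraMap R p.asIdeal.ResidueField (coeff d f) ≠ 0 := by
      obtain ⟨d, hd⟩ := support_nonempty.2 hfne
      exact ⟨d, by rwa [mem_support_iff, coeff_map] at hd⟩
    rw [fibreMap_map] at hf0
    obtain ⟨t, ht, htx⟩ := exists_mul_mem_of_fibre_eq_zero p.asIdeal hf0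
    obtain ⟨T, hTp, hT⟩ : ∃ T : Finset R, (T : Set R) ⊆ p.asIdeal ∧
        algebraMap R S t * aeval v f ∈ (Ideal.span (T : Set R)).map (algebraMap R S) := by
      rw [Ideal.map, Ideal.span, Submodule.mem_span_iff_exists_finset_subset] at htx
      obtain ⟨_, _, hsub, _, hsum⟩ := htx
      rename_i w T' hw
      choose! b hb hb' using hsub
      refine ⟨T'.image b, fun a ha => ?_, ?_⟩
      · obtain ⟨i, hi, rfl⟩ := Finset.mem_image.1 ha
        exact hb hi
      · rw [← hsum]
        refine Ideal.sum_mem _ fun i hi => Ideal.mul_mem_left _ _ ?_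
        rw [← hb' hi]
        exact Ideal.mem_map_of_mem _ (Ideal.subset_span (Finset.mem_image_of_mem b hi))
    refine ⟨f, (PrimeSpectrum.basicOpen t : Set (PrimeSpectrum R)) ∩
      PrimeSpectrum.basicOpen (coeff d f) ∩ PrimeSpectrum.zeroLocus (T : Set R),
      ⟨⟨ht, fun h' => hd (Ideal.algebraMap_residueField_eq_zero.2 h')⟩, hTp⟩,
      (constructibleTopology (PrimeSpectrum R)).isOpen_inter _ _
        ((constructibleTopology (PrimeSpectrum R)).isOpen_inter _ _ (isOpen_cons_basicOpen t)
          (isOpen_cons_basicOpen _)) (isOpen_cons_zeroLocus_finset T), ?_⟩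
    rintro q ⟨⟨hqt, hqd⟩, hqT⟩
    refine ⟨fun h0 => hqd ?_, ?_⟩
    · have := congrArg (coeff d) h0
      rw [coeff_map, coeff_zero, Ideal.algebraMap_residueField_eq_zero] at this
      exact this
    · rw [fibreMap_map]
      let ι : S →ₐ[R] q.asIdeal.Fiber S := Algebra.TensorProduct.includeRight
      show ι (aeval v f) = 0
      have h1 : ι (algebraMap R S t * aeval v f) = 0 := by
        refine RingHom.mem_ker.1 ((Ideal.map_le_iff_le_comap.2 ?_ : _ ≤ RingHom.ker ι) hT)
        rw [Ideal.span_le]
        intro a ha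
        show ι (algebraMap R S a) = 0
        rw [AlgHom.commutes, IsScalarTower.algebraMap_apply R q.asIdeal.ResidueField,
          Ideal.algebraMap_residueField_eq_zero.2 (hqT ha), map_zero]
      have hu : IsUnit (ι (algebraMap R S t)) := by
        rw [AlgHom.commutes, IsScalarTower.algebraMap_apply R q.asIdeal.ResidueField]
        exact (isUnit_iff_ne_zero.2 fun h' => hqt (Ideal.algebraMap_residueField_eq_zero.1 h')).map _
      rw [map_mul] at h1
      exact hu.mul_right_eq_zero.1 h1
  choose f O hpO hO hOU using hU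
  have : CompactSpace (WithConstructibleTopology (PrimeSpectrum R)) := inferInstance
  obtain ⟨s, hs⟩ := isCompact_univ.elim_finite_subcover
    (fun p : PrimeSpectrum R => WithTopology.toTopology (constructibleTopology (PrimeSpectrum R)) '' O p)
    (fun p => by
      rw [WithConstructibleTopology.isOpen_iff, Set.preimage_image_eq _ (WithTopology.toTopology_injective _)]
      exact hO p)
    (fun x _ => by
      obtain ⟨p, rfl⟩ := WithTopology.toTopology_surjective _ x
      exact Set.mem_iUnion.2 ⟨p, p, hpO p, rfl⟩)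
  refine ⟨s.image f, fun q => ?_⟩
  obtain ⟨p, hp, q', hq', e⟩ := Set.mem_iUnion₂.1
    (hs (Set.mem_univ (WithTopology.toTopology (constructibleTopology (PrimeSpectrum R)) q)))
  rw [WithTopology.toTopology_injective _ e] at hq'
  exact ⟨f p, Finset.mem_image_of_mem f hp, hOU p hq'⟩

/-- Every element of the fibre rings is integral over the coordinates. -/
def FibreIntegral {m : ℕ} (v : Fin m → S) : Prop :=
  ∀ (p : PrimeSpectrum R) (s : p.asIdeal.Fiber S), (fibreMap p.asIdeal v).toRingHom.IsIntegralElem s

theorem fibreIntegral_of_surjective {m : ℕ} (v : Fin m → S)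
    (hv : Function.Surjective (aeval v : MvPolynomial (Fin m) R →ₐ[R] S)) :
    FibreIntegral (R := R) v := by
  intro p s
  induction s using TensorProduct.induction_on with
  | zero => exact (fibreMap p.asIdeal v).toRingHom.isIntegralElem_zero
  | tmul a b =>
    obtain ⟨f, rfl⟩ := hv b
    have : a ⊗ₜ[R] (aeval v f) = fibreMap p.asIdeal v (C a * map (algebraMap R p.asIdeal.ResidueField) f) := by
      rw [map_mul, fibreMap_map]
      simp [fibreMap]
    rw [this]
    exact RingHom.isIntegralElem_map _
  | add a b ha hb => exact RingHom.IsIntegralElem.add _ ha hb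

theorem not_injective_fibreMap {m d : ℕ} (v : Fin m → S) (hv : FibreIntegral (R := R) v)
    (hd : ∀ p : PrimeSpectrum R, ringKrullDim (p.asIdeal.Fiber S) ≤ (d : WithBot ℕ∞)) (hdm : d < m)
    (p : PrimeSpectrum R) : ¬ Function.Injective (fibreMap p.asIdeal v) := by
  intro hinj
  let _ : Algebra (MvPolynomial (Fin m) p.asIdeal.ResidueField) (p.asIdeal.Fiber S) :=
    (fibreMap p.asIdeal v).toRingHom.toAlgebra
  have : Algebra.IsIntegral (MvPolynomial (Fin m) p.asIdeal.ResidueField) (p.asIdeal.Fiber S) :=
    ⟨fun s => hv p s⟩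
  have h := (DimLib.ringKrullDim_eq_of_isIntegral
    (R := MvPolynomial (Fin m) p.asIdeal.ResidueField) (S := p.asIdeal.Fiber S) hinj).trans_le (hd p)
  rw [MvPolynomial.ringKrullDim_of_isNoetherianRing, ringKrullDim_eq_zero_of_field, zero_add,
    Nat.card_eq_fintype_card, Fintype.card_fin] at h
  exact absurd (by exact_mod_cast h) (not_le.2 hdm)

/-- One step: drop a coordinate. -/
theorem exists_step {m : ℕ} (v : Fin (m + 1) → S) (hv : FibreIntegral (R := R) v)
    (h : ∀ p : PrimeSpectrum R, ¬ Function.Injective (fibreMap p.asIdeal v)) :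
    ∃ w : Fin m → S, FibreIntegral (R := R) w := by
  classical
  obtain ⟨F, hF⟩ := exists_finset_relations v h
  let N := (F.sup fun f => f.totalDegree) + 1
  refine ⟨fun j => v j.succ - v 0 ^ N ^ (j.1 + 1), fun p s => ?_⟩
  obtain ⟨f, hf, hne, h0⟩ := hF p
  set K := p.asIdeal.ResidueField
  set w : Fin m → S := fun j => v j.succ - v 0 ^ N ^ (j.1 + 1) with hw
  set g : MvPolynomial (Fin (m + 1)) K := map (algebraMap R K) f
  let _ : Algebra (MvPolynomial (Fin m) K) (p.asIdeal.Fiber S) :=
    (fibreMap p.asIdeal w).toRingHom.toAlgebra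
  let u₀ : p.asIdeal.Fiber S := Algebra.TensorProduct.includeRight (v 0)
  have hsub : ∀ q : MvPolynomial (Fin (m + 1)) K,
      Polynomial.eval₂ (fibreMap p.asIdeal w).toRingHom u₀ (nagata K m N q) = fibreMap p.asIdeal v q := by
    have : (Polynomial.eval₂RingHom (fibreMap p.asIdeal w).toRingHom u₀).comp (nagata K m N).toRingHom =
        (fibreMap p.asIdeal v).toRingHom := by
      refine ringHom_ext (fun a => ?_) fun i => ?_
      · show Polynomial.eval₂ (fibreMap p.asIdeal w).toRingHom u₀ (nagata K m N (C a)) = fibreMap _ v (C a)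
        simp [nagata, fibreMap, Polynomial.algebraMap_eq]
        erw [Polynomial.eval₂_C]
        exact MvPolynomial.aeval_C _ a
      · show Polynomial.eval₂ (fibreMap p.asIdeal w).toRingHom u₀ (nagata K m N (X i)) = fibreMap _ v (X i)
        cases i using Fin.cases with
        | zero => simp [nagata, fibreMap, u₀]
        | succ j =>
          simp [nagata, fibreMap, u₀, hw, ← TensorProduct.tmul_add]
          erw [Polynomial.eval₂_C]
          simp [← TensorProduct.tmul_add]
    exact fun q => congr($this q)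
  have hu₀ : IsIntegral (MvPolynomial (Fin m) K) u₀ := by
    have hunit := isUnit_leadingCoeff_nagata (m := m) (N := N) g hne fun x hx i => by
      have h1 := (monomial_le_degreeOf i hx).trans (degreeOf_le_totalDegree g i)
      have h2 : g.totalDegree ≤ f.totalDegree := by
        refine Finset.sup_mono ?_
        exact MvPolynomial.support_map_subset _ _
      have h3 := Finset.le_sup (f := fun f : MvPolynomial (Fin (m + 1)) R => f.totalDegree) hf
      simp only [N]
      omega
    refine ⟨_, Polynomial.monic_of_isUnit_leadingCoeff_inv_smul hunit, ?_⟩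
    rw [Units.smul_def, Polynomial.smul_eq_C_mul, Polynomial.eval₂_mul]
    show _ * Polynomial.eval₂ (fibreMap p.asIdeal w).toRingHom u₀ (nagata K m N g) = 0
    rw [hsub, h0, mul_zero]
  let L := integralClosure (MvPolynomial (Fin m) K) (p.asIdeal.Fiber S)
  have hmem : ∀ q, fibreMap p.asIdeal v q ∈ L := by
    intro q
    induction q using MvPolynomial.induction_on with
    | C a =>
      have : fibreMap p.asIdeal v (C a) = algebraMap (MvPolynomial (Fin m) K) _ (C a) := by
        show _ = fibreMap p.asIdeal w (C a)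
        simp [fibreMap]
      rw [this]
      exact L.algebraMap_mem _
    | add a b ha hb => rw [map_add]; exact add_mem ha hb
    | mul_X a i ha =>
      rw [map_mul]
      refine mul_mem ha ?_
      cases i using Fin.cases with
      | zero => simp only [fibreMap, aeval_X]; exact hu₀
      | succ j =>
        have : fibreMap p.asIdeal v (X j.succ) =
            algebraMap (MvPolynomial (Fin m) K) _ (X j) + u₀ ^ N ^ (j.1 + 1) := by
          show _ = fibreMap p.asIdeal w (X j) + _
          simp [fibreMap, u₀, hw, ← TensorProduct.tmul_add]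
        rw [this]
        exact add_mem (L.algebraMap_mem _) (pow_mem hu₀ _)
  have hs : IsIntegral L s := by
    obtain ⟨P, hP, hPs⟩ := hv p s
    let φ : MvPolynomial (Fin (m + 1)) K →+* L := (fibreMap p.asIdeal v).toRingHom.codRestrict L hmem
    refine ⟨P.map φ, hP.map _, ?_⟩
    rw [Polynomial.eval₂_map]
    exact hPs
  have : Algebra.IsIntegral (MvPolynomial (Fin m) K) L := ⟨fun x => by
    exact (isIntegral_algHom_iff L.val Subtype.val_injective).1 x.2⟩
  exact isIntegral_trans s hs

theorem exists_fibre_integral [Algebra.FiniteType R S] (d : ℕ)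
    (hd : ∀ p : PrimeSpectrum R, ringKrullDim (p.asIdeal.Fiber S) ≤ (d : WithBot ℕ∞)) :
    ∃ v : Fin d → S, FibreIntegral (R := R) v := by
  obtain ⟨n, φ, hφ⟩ := Algebra.FiniteType.iff_quotient_mvPolynomial''.1 ‹Algebra.FiniteType R S›
  have hstart : ∃ m, d ≤ m ∧ ∃ v : Fin m → S, FibreIntegral (R := R) v := by
    refine ⟨max n d, le_max_right _ _, fun i => if h : i.1 < n then φ (X ⟨i.1, h⟩) else 0,
      fibreIntegral_of_surjective _ fun s => ?_⟩
    obtain ⟨f, rfl⟩ := hφ s
    refine ⟨rename (Fin.castLE (le_max_left n d)) f, ?_⟩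
    rw [aeval_rename, MvPolynomial.aeval_unique φ]
    congr 1
    ext i
    simp
  obtain ⟨m, hm, hv⟩ := hstart
  induction m, hm using Nat.le_induction with
  | base => exact hv
  | succ m hm ih =>
    obtain ⟨v, hv⟩ := hv
    exact ih (exists_step v hv (not_injective_fibreMap v hv hd (Nat.lt_succ_of_le hm)))

theorem quasiFinite_of_fibre_integral [Algebra.FiniteType R S] {m : ℕ} (v : Fin m → S)
    (hv : FibreIntegral (R := R) v) :
    (aeval v : MvPolynomial (Fin m) R →ₐ[R] S).toRingHom.QuasiFinite := by
  let _ : Algebra (MvPolynomial (Fin m) R) S := (aeval v : MvPolynomial (Fin m) R →ₐ[R] S).toRingHom.toAlgebra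
  have : IsScalarTower R (MvPolynomial (Fin m) R) S :=
    .of_algebraMap_eq fun a => ((aeval v : MvPolynomial (Fin m) R →ₐ[R] S).commutes a).symm
  have : Algebra.FiniteType (MvPolynomial (Fin m) R) S :=
    Algebra.FiniteType.of_restrictScalars_finiteType R _ _
  show Algebra.QuasiFinite (MvPolynomial (Fin m) R) S
  rw [Algebra.QuasiFinite.iff_finite_comap_preimage_singleton]
  intro P
  let p : PrimeSpectrum R := PrimeSpectrum.comap (algebraMap R (MvPolynomial (Fin m) R)) P
  let K := p.asIdeal.ResidueField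
  let _ : Algebra (MvPolynomial (Fin m) K) (p.asIdeal.Fiber S) :=
    (fibreMap p.asIdeal v).toRingHom.toAlgebra
  have : IsScalarTower K (MvPolynomial (Fin m) K) (p.asIdeal.Fiber S) :=
    .of_algebraMap_eq fun a => ((fibreMap p.asIdeal v).commutes a).symm
  have : Algebra.FiniteType K (p.asIdeal.Fiber S) := inferInstance
  have : Algebra.FiniteType (MvPolynomial (Fin m) K) (p.asIdeal.Fiber S) :=
    Algebra.FiniteType.of_restrictScalars_finiteType K _ _
  have hint : Algebra.IsIntegral (MvPolynomial (Fin m) K) (p.asIdeal.Fiber S) := ⟨fun s => hv p s⟩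
  have : Module.Finite (MvPolynomial (Fin m) K) (p.asIdeal.Fiber S) := Algebra.IsIntegral.finite
  let G : Set (PrimeSpectrum (MvPolynomial (Fin m) K)) :=
    PrimeSpectrum.comap (map (algebraMap R K)) ⁻¹' {P}
  have hG : G.Subsingleton := by
    intro a ha b hb
    refine PrimeSpectrum.ext (Ideal.ext fun g => ?_)
    obtain ⟨c, f, hc, hf⟩ := exists_map_eq_C_mul (algebraMap R K) (residueField_div p.asIdeal) g
    have key : ∀ q : PrimeSpectrum (MvPolynomial (Fin m) K), q ∈ G → (g ∈ q.asIdeal ↔ f ∈ P.asIdeal) := by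
      intro q hq
      rw [← Set.mem_singleton_iff.1 hq]
      show _ ↔ map (algebraMap R K) f ∈ q.asIdeal
      rw [hf]
      exact ((Ideal.unit_mul_mem_iff_mem _ ((isUnit_iff_ne_zero.2 hc).map C)).symm)
    rw [key a ha, key b hb]
  have hfin : (PrimeSpectrum.comap (algebraMap (MvPolynomial (Fin m) K) (p.asIdeal.Fiber S)) ⁻¹' G).Finite :=
    Algebra.QuasiFinite.finite_comap_preimage hG.finite
  refine (hfin.image (PrimeSpectrum.comap
    (Algebra.TensorProduct.includeRight (R := R) (A := K) (B := S)).toRingHom)).subset ?_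
  intro q hq
  have hqp : PrimeSpectrum.comap (algebraMap R S) q = p := by
    show _ = PrimeSpectrum.comap (algebraMap R (MvPolynomial (Fin m) R)) P
    rw [← Set.mem_singleton_iff.1 hq, IsScalarTower.algebraMap_eq R (MvPolynomial (Fin m) R) S,
      PrimeSpectrum.comap_comp]
    rfl
  obtain ⟨⟨Q, hQ⟩, rfl⟩ : ∃ Q : {Q : PrimeSpectrum (p.asIdeal.Fiber S) // True},
      PrimeSpectrum.comap (Algebra.TensorProduct.includeRight (R := R) (A := K) (B := S)).toRingHom Q.1 = q := by
    refine ⟨⟨PrimeSpectrum.preimageEquivFiber R S p ⟨q, hqp⟩, trivial⟩, ?_⟩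
    exact congrArg Subtype.val ((PrimeSpectrum.preimageEquivFiber R S p).symm_apply_apply ⟨q, hqp⟩)
  refine ⟨Q, ?_, rfl⟩
  show PrimeSpectrum.comap (map (algebraMap R K)) (PrimeSpectrum.comap _ Q) = P
  rw [← Set.mem_singleton_iff.1 hq]
  refine PrimeSpectrum.ext (Ideal.ext fun f => ?_)
  show fibreMap p.asIdeal v (map (algebraMap R K) f) ∈ Q.asIdeal ↔ _
  rw [fibreMap_map]
  rfl

end Groth.Agent.FlatMorNoether
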